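import Groth.Agent.AlgSpLib.InfUniv
import Groth.Agent.AlgSpFpqc.Mor

/-!
# The first order infinitesimal neighbourhood is a universal first order thickening
-/

set_option linter.style.haveILetI false
set_option autoImplicit false
set_option backward.isDefEq.respectTransparency false
set_option backward.isDefEq.respectTransparency.types false

universe u

open CategoryTheory CategoryTheory.Limits AlgebraicGeometry Opposite AlgSp Groth.Agent.AlgSpDec

namespace Groth.Agent.AlgSpLib.InfNbhdUniv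

variable {S : Scheme.{u}}

theorem ker_le_of_appTop {B W V : Scheme.{u}} [IsAffine V] (φ : B ⟶ V) (s : W ⟶ V) [QuasiCompact φ]
    [QuasiCompact s] (h : RingHom.ker s.appTop.hom ≤ RingHom.ker φ.appTop.hom) : s.ker ≤ φ.ker := by
  refine Scheme.IdealSheafData.le_of_isAffine ?_
  rw [Scheme.Hom.ker_apply, Scheme.Hom.ker_apply]
  exact h

theorem ker_appTop_subschemeι {B : Scheme.{u}} [IsAffine B] (J : Ideal Γ(B, ⊤)) :
    RingHom.ker (Scheme.IdealSheafData.ofIdealTop J).subschemeι.appTop.hom = J :=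
  ((Scheme.IdealSheafData.ofIdealTop J).ker_subschemeι_app ⟨⊤, isAffineOpen_top B⟩).trans (by simp)

theorem ker_le_comp {A B C : Scheme.{u}} (f : A ⟶ B) (g : B ⟶ C) (x : Γ(C, ⊤))
    (hx : x ∈ RingHom.ker g.appTop.hom) : x ∈ RingHom.ker (f ≫ g).appTop.hom := by
  rw [RingHom.mem_ker] at hx ⊢
  rw [Scheme.Hom.comp_appTop, CommRingCat.hom_comp, RingHom.comp_apply, hx, map_zero]

variable {Z U Z₁ : Sp S} {c : Z ⟶ U} {j : Z ⟶ Z₁} {k : Z₁ ⟶ U}

theorem mono_closed (hk : RepWith @IsClosedImmersion k) : Mono k :=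
  AlgSpPts.mono_of_repWith (repWith_mono (fun _ _ h (_ : IsClosedImmersion h) => inferInstanceAs (Mono h)) _ hk)

theorem ker_appTop_nbhd (hN : IsInfNbhd 1 c j k) {V : Over S} [IsAffine V.left] (b : (yon S).obj V ⟶ U)
    (hb : RepWith @Etale b) :
    RingHom.ker (hN.2.2.1.rep.snd b).left.appTop.hom = RingHom.ker (hN.2.1.rep.snd b).left.appTop.hom ^ 2 := by
  have : IsClosedImmersion (hN.2.2.1.rep.snd b).left := hN.2.2.1.property_snd b
  have : IsClosedImmersion (hN.2.1.rep.snd b).left := hN.2.1.property_snd b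
  have h := hN.2.2.2 b (hN.2.1.rep.fst b) (hN.2.1.rep.snd b) (hN.2.2.1.rep.fst b) (hN.2.2.1.rep.snd b) ‹_› hb
    (hN.2.1.rep.isPullback b) (hN.2.2.1.rep.isPullback b)
  have := congr(($h).ideal ⟨⊤, isAffineOpen_top V.left⟩)
  simpa [Scheme.IdealSheafData.ideal_pow, Scheme.Hom.ker_apply] using this

/-- The neighbourhood is a first order thickening. -/
theorem isFOThickMor_of_isInfNbhd (hU : IsAlgSpace U) (hN : IsInfNbhd 1 c j k) : IsFOThickMor j := by
  obtain ⟨hjk, hc, hk, -⟩ := id hN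
  have := mono_closed hk
  have hjc : RepWith @IsClosedImmersion j := by
    refine repWith_of_isPullback (f := c) (IsPullback.flip ?_ : IsPullback (𝟙 Z) j c k) hc
    refine ⟨⟨by rw [Category.id_comp, hjk]⟩, ⟨PullbackCone.IsLimit.mk _ (fun s => s.snd) (fun s => ?_)
      (fun s => Category.comp_id _) (fun s m _ h => by rw [← h, Category.comp_id])⟩⟩
    rw [← cancel_mono k, Category.assoc, hjk, s.condition]
  obtain ⟨ι, Vs, b, hV, -, hcov⟩ := (show ∃ (ι : Type u) (Vs : ι → Over S) (b : ∀ i, (yon S).obj (Vs i) ⟶ U),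
      (∀ i, IsAffine (Vs i).left) ∧ True ∧ (∀ i, RepWith @Etale (b i)) ∧
        ∀ x : Points U, ∃ i, x ∈ Set.range (Points.ofPt (b i)) by
    obtain ⟨A, p, he, hs⟩ := hU.atlas
    refine ⟨A.left.affineOpens, fun O => Over.mk (O.1.ι ≫ A.hom),
      fun O => (yon S).map (AlgSpFpqc.opIncl A O) ≫ p, fun O => O.2, trivial,
      fun O => repWith_comp ((repWith_yon_map_iff _ _).2 (inferInstanceAs (Etale O.1.ι))) he, fun x => ?_⟩
    obtain ⟨a, rfl⟩ := surjective_ofPt hs x
    obtain ⟨O, v, rfl⟩ := (AlgSpFpqc.opIncl_cover A).2 a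
    exact ⟨O, v, ofPt_comp _ _ _⟩)
  obtain ⟨hbe, hbs⟩ := hcov
  have hI : ∀ i, RingHom.ker (hk.rep.snd (b i)).left.appTop.hom =
      RingHom.ker (hc.rep.snd (b i)).left.appTop.hom ^ 2 := fun i => by
    have := hV i
    exact ker_appTop_nbhd hN (b i) (hbe i)
  have hjs : Function.Surjective (Points.map j) := by
    intro y
    obtain ⟨i, v, hv⟩ := hbs (Points.map k y)
    have := hV i
    obtain ⟨w₁, -, hw₁⟩ := AlgSpPts.exists_lift (hk.rep.isPullback (b i)) hv.symm
    have : IsClosedImmersion (hk.rep.snd (b i)).left := hk.property_snd (b i)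
    have : IsClosedImmersion (hc.rep.snd (b i)).left := hc.property_snd (b i)
    have hsup : Set.range (hk.rep.snd (b i)).left = Set.range (hc.rep.snd (b i)).left := by
      have h := congr(SetLike.coe ($(hN.2.2.2 (b i) (hc.rep.fst (b i)) (hc.rep.snd (b i)) (hk.rep.fst (b i))
        (hk.rep.snd (b i)) ‹_› (hbe i) (hc.rep.isPullback (b i)) (hk.rep.isPullback (b i)))).support)
      simp only [Scheme.IdealSheafData.support_pow_succ, Scheme.Hom.support_ker] at h
      rwa [(hk.rep.snd (b i)).left.isClosedEmbedding.isClosed_range.closure_eq,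
        (hc.rep.snd (b i)).left.isClosedEmbedding.isClosed_range.closure_eq] at h
    obtain ⟨w, hw⟩ : v ∈ Set.range (hc.rep.snd (b i)).left := hsup ▸ ⟨w₁, hw₁⟩
    refine ⟨Points.ofPt (hc.rep.fst (b i)) w, AlgSpPts.injective_map (repWith_mono (P := @IsClosedImmersion)
      (fun _ _ h (_ : IsClosedImmersion h) => h.isClosedEmbedding.injective) _ hk) ?_⟩
    rw [← Points.map_comp, hjk, Points.map_ofPt, (hc.rep.isPullback (b i)).w, ofPt_comp, hw, hv]
  refine ⟨repWith_inf_iff (P := @IsClosedImmersion) (Q := @Surjective) j |>.2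
    ⟨hjc, repWith_surjective_of_surjective hjc.rep hjs⟩, ?_⟩
  intro V' W' e fst snd hV' _ hP
  have : IsClosedImmersion snd.left := hjc.2 e _ _ hP
  refine MorLib.ker_mul_ker_eq_bot_of_isAffine _ ?_
  rw [pow_two, eq_bot_iff, Ideal.mul_le]
  intro x hx y hy
  rw [Ideal.mem_bot]
  refine eq_zero_of_flat_cover (x * y) fun v => ?_
  obtain ⟨i, u', hu'⟩ := hbs (Points.ofPt (e ≫ k) v)
  have := hV i
  let R := (hbe i).rep.pullback (e ≫ k)
  obtain ⟨r, -, hr⟩ := exists_ofPt_of_eq ((hbe i).rep.isPullback' (e ≫ k)) hu'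
  obtain ⟨O, hO, hrO, -⟩ := exists_isAffineOpen_mem_and_subset (U := (⊤ : R.left.Opens)) (x := r) trivial
  let Bo : Over S := Over.mk (O.ι ≫ R.hom)
  let inc : Bo ⟶ R := Over.homMk O.ι rfl
  have : IsAffine Bo.left := hO
  let φ : Bo ⟶ Vs i := inc ≫ (hbe i).rep.fst' (e ≫ k)
  let kB : Bo ⟶ V' := inc ≫ (hbe i).rep.snd (e ≫ k)
  have hφ : (yon S).map φ ≫ b i = (yon S).map kB ≫ e ≫ k := by
    simp only [φ, kB, Functor.map_comp, Category.assoc, ((hbe i).rep.isPullback' (e ≫ k)).w]
  have : IsClosedImmersion (hk.rep.snd (b i)).left := hk.property_snd (b i)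
  have : IsClosedImmersion (hc.rep.snd (b i)).left := hc.property_snd (b i)
  -- the chart factors through the neighbourhood
  obtain ⟨m, hm⟩ := (yon S).map_surjective ((hk.rep.isPullback (b i)).lift ((yon S).map kB ≫ e) ((yon S).map φ)
    (by rw [Category.assoc, hφ]))
  have hmφ : m ≫ hk.rep.snd (b i) = φ := (yon S).map_injective (by
    rw [Functor.map_comp, hm]; exact (hk.rep.isPullback (b i)).lift_snd _ _ _)
  let J : Ideal Γ(Bo.left, ⊤) := (RingHom.ker (hc.rep.snd (b i)).left.appTop.hom).map φ.left.appTop.hom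
  have hJ : J ^ 2 = ⊥ := by
    rw [← Ideal.map_pow, Ideal.map_eq_bot_iff_le_ker, ← hI, ← hmφ]
    exact fun z hz => ker_le_comp _ _ z hz
  let IJ := Scheme.IdealSheafData.ofIdealTop J
  let Qo : Over S := Over.mk (IJ.subschemeι ≫ Bo.hom)
  let qo : Qo ⟶ Bo := Over.homMk IJ.subschemeι rfl
  have : IsClosedImmersion qo.left := inferInstanceAs (IsClosedImmersion IJ.subschemeι)
  have : QuasiCompact (qo ≫ φ).left := by
    have : IsAffine Qo.left := isAffine_of_isAffineHom qo.left
    exact inferInstance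
  have hle : (hc.rep.snd (b i)).left.ker ≤ (qo ≫ φ).left.ker := ker_le_of_appTop _ _ fun z hz => by
    rw [RingHom.mem_ker, Over.comp_left, Scheme.Hom.comp_appTop, CommRingCat.hom_comp, RingHom.comp_apply]
    exact RingHom.mem_ker.1 ((ker_appTop_subschemeι J).ge (Ideal.mem_map_of_mem _ hz))
  let z : Qo ⟶ hc.rep.pullback (b i) :=
    Over.homMk (IsClosedImmersion.lift _ _ hle) (by
      rw [← Over.w (hc.rep.snd (b i)), IsClosedImmersion.lift_fac_assoc]
      exact Over.w (qo ≫ φ))
  have hz : z ≫ hc.rep.snd (b i) = qo ≫ φ := Over.OverMorphism.ext (IsClosedImmersion.lift_fac _ _ _)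
  obtain ⟨n, hn⟩ := (yon S).map_surjective (hP.lift ((yon S).map z ≫ hc.rep.fst (b i))
    ((yon S).map (qo ≫ kB)) (by
      rw [← cancel_mono k, Category.assoc, Category.assoc, hjk, (hc.rep.isPullback (b i)).w, ← Functor.map_comp_assoc,
        hz, Functor.map_comp_assoc, hφ, Category.assoc, ← Functor.map_comp_assoc]))
  have hns : n ≫ snd = qo ≫ kB := (yon S).map_injective (by rw [Functor.map_comp, hn, hP.lift_snd])
  have hmem : ∀ a ∈ RingHom.ker snd.left.appTop.hom, kB.left.appTop.hom a ∈ J := fun a ha => by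
    rw [← ker_appTop_subschemeι J, RingHom.mem_ker]
    have := congrArg (fun f : Qo ⟶ V' => f.left.appTop.hom a) hns
    simp only [Over.comp_left, Scheme.Hom.comp_appTop, CommRingCat.hom_comp, RingHom.comp_apply,
      RingHom.mem_ker.1 ha, map_zero] at this
    exact this.symm
  refine ⟨Bo.left, kB.left, ⟨r, hrO⟩, ?_, hr, ?_⟩
  · have : Etale ((hbe i).rep.snd (e ≫ k)).left := (hbe i).property_snd (e ≫ k)
    have : IsOpenImmersion inc.left := inferInstanceAs (IsOpenImmersion O.ι)
    simp only [kB, Over.comp_left]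
    infer_instance
  · show kB.left.appTop.hom (x * y) = 0
    rw [map_mul, ← Ideal.mem_bot, ← hJ, pow_two]
    exact Ideal.mul_mem_mul (hmem x hx) (hmem y hy)

/-- Maps from first order thickenings factor through the neighbourhood. -/
theorem isUnivFOThick_of_isInfNbhd (hU : IsAlgSpace U) (hN : IsInfNbhd 1 c j k) : IsUnivFOThick c j k := by
  obtain ⟨hjk, hc, hk, -⟩ := id hN
  have := mono_closed hk
  refine (isUnivFOThick_iff c j k (isFOThickMor_of_isInfNbhd hU hN) hjk).2 fun T T' jT _ hj a b hw => ?_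
  suffices ∃ y : (yon S).obj T' ⟶ Z₁, y ≫ k = b by
    obtain ⟨y, hy⟩ := this
    refine ⟨y, ⟨?_, hy⟩, fun y' hy' => ?_⟩
    · rw [← cancel_mono k, Category.assoc, hy, hw, Category.assoc, hjk]
    · rw [← cancel_mono k, hy'.2, hy]
  obtain ⟨A, p, he, hs⟩ := hU.atlas
  -- an etale covering of the test object by affines over affine charts
  have key : ∀ t : ↥T'.left, ∃ (Bo : Over S) (π : Bo ⟶ T') (m : (yon S).obj Bo ⟶ Z₁),
      Etale π.left ∧ t ∈ Set.range π.left ∧ m ≫ k = (yon S).map π ≫ b := by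
    intro t
    obtain ⟨a₀, ha₀⟩ := surjective_ofPt hs (Points.ofPt b t)
    obtain ⟨O, v, rfl⟩ := (AlgSpFpqc.opIncl_cover A).2 a₀
    let V : Over S := Over.mk (O.1.ι ≫ A.hom)
    have : IsAffine V.left := O.2
    let bV : (yon S).obj V ⟶ U := (yon S).map (AlgSpFpqc.opIncl A O) ≫ p
    have hbV : RepWith @Etale bV :=
      repWith_comp ((repWith_yon_map_iff _ _).2 (inferInstanceAs (Etale O.1.ι))) he
    let R := hbV.rep.pullback b
    obtain ⟨r, -, hr⟩ := exists_ofPt_of_eq (hbV.rep.isPullback' b) (u := v) (v := t)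
      ((ofPt_comp _ _ _).trans ha₀)
    obtain ⟨O', hO', hrO, -⟩ := exists_isAffineOpen_mem_and_subset (U := (⊤ : R.left.Opens)) (x := r) trivial
    let Bo : Over S := Over.mk (O'.ι ≫ R.hom)
    let inc : Bo ⟶ R := Over.homMk O'.ι rfl
    have : IsAffine Bo.left := hO'
    let φ : Bo ⟶ V := inc ≫ hbV.rep.fst' b
    let π : Bo ⟶ T' := inc ≫ hbV.rep.snd b
    have hφ : (yon S).map φ ≫ bV = (yon S).map π ≫ b := by
      simp only [φ, π, Functor.map_comp, Category.assoc, (hbV.rep.isPullback' b).w]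
    have hq : IsFOThickMor ((yon S).map (pullback.snd jT π)) :=
      isFOThickMor_baseChange (IsAlgSpace.yon_obj T') hj ((IsPullback.of_hasPullback jT π).map (yon S))
    let q := pullback.snd jT π
    have hqc : IsClosedImmersion q.left := ((repWith_yon_map_iff _ q).1 hq.1).1
    obtain ⟨n, hn⟩ := (yon S).map_surjective ((hc.rep.isPullback bV).lift
      ((yon S).map (pullback.fst jT π) ≫ a) ((yon S).map (q ≫ φ)) (by
        rw [Category.assoc, ← hw, ← Functor.map_comp_assoc, pullback.condition, Functor.map_comp_assoc, ← hφ,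
          ← Functor.map_comp_assoc]))
    have hns : n ≫ hc.rep.snd bV = q ≫ φ := (yon S).map_injective (by
      rw [Functor.map_comp, hn]; exact (hc.rep.isPullback bV).lift_snd _ _ _)
    have : IsClosedImmersion (hk.rep.snd bV).left := hk.property_snd bV
    have : IsClosedImmersion (hc.rep.snd bV).left := hc.property_snd bV
    have hsq : RingHom.ker q.left.appTop.hom ^ 2 = ⊥ :=
      MorLib.ker_appTop_sq_eq_bot _ (hq.2 (𝟙 _) (𝟙 _) q ‹_› (repWith_of_isIso _ _) (IsPullback.of_horiz_isIso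
        ⟨by rw [Category.id_comp, Category.comp_id]⟩))
    have hle : (hk.rep.snd bV).left.ker ≤ φ.left.ker := ker_le_of_appTop _ _ (by
      rw [ker_appTop_nbhd hN bV hbV, ← Ideal.map_eq_bot_iff_le_ker, eq_bot_iff, ← hsq, Ideal.map_pow]
      refine Ideal.pow_right_mono (Ideal.map_le_iff_le_comap.2 fun z hz => ?_) 2
      have := congrArg (fun f : pullback jT π ⟶ V => f.left.appTop.hom z) hns
      simp only [Over.comp_left, Scheme.Hom.comp_appTop, CommRingCat.hom_comp, RingHom.comp_apply,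
        RingHom.mem_ker.1 hz, map_zero] at this
      exact this.symm)
    let m₀ : Bo ⟶ hk.rep.pullback bV := Over.homMk (IsClosedImmersion.lift _ _ hle) (by
      rw [← Over.w (hk.rep.snd bV), IsClosedImmersion.lift_fac_assoc]
      exact Over.w φ)
    have hm₀ : m₀ ≫ hk.rep.snd bV = φ := Over.OverMorphism.ext (IsClosedImmersion.lift_fac _ _ _)
    refine ⟨Bo, π, (yon S).map m₀ ≫ hk.rep.fst bV, ?_, ⟨⟨r, hrO⟩, hr⟩, ?_⟩
    · have : Etale (hbV.rep.snd b).left := hbV.property_snd b
      have : IsOpenImmersion inc.left := inferInstanceAs (IsOpenImmersion O'.ι)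
      simp only [π, Over.comp_left]
      infer_instance
    · rw [Category.assoc, (hk.rep.isPullback bV).w, ← Functor.map_comp_assoc, hm₀, hφ]
  choose Bo π m hπ hcov hm using key
  obtain ⟨y, hy⟩ := AlgSpDec.exists_desc_of_fppfCover (Z := Z₁) (IsAlgSpace.yon_obj _)
    (fun t => IsAlgSpace.yon_obj _) (AlgSpFpqc.fppfCover_yon π (fun t => by
      have := hπ t
      exact ⟨inferInstance, inferInstance⟩) fun t => ⟨t, hcov t⟩) m fun i l D p q e => by
    rw [← cancel_mono k, Category.assoc, Category.assoc, hm, hm, reassoc_of% e]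
  refine ⟨y, AlgSpDec.hom_ext_of_fppfCover (IsAlgSpace.yon_obj _) (fun t => IsAlgSpace.yon_obj _)
    (AlgSpFpqc.fppfCover_yon π (fun t => by
      have := hπ t
      exact ⟨inferInstance, inferInstance⟩) fun t => ⟨t, hcov t⟩) fun t => ?_⟩
  rw [reassoc_of% (hy t), hm]

end Groth.Agent.AlgSpLib.InfNbhdUniv
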