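import Groth.Agent.AlgSpLib.InfBC
import Groth.Agent.AlgSpLib.EtaleSmoothLocal
import Groth.Agent.AlgSpDec.UHScheme
import Groth.Agent.AlgSpDec.UHExtend
import Groth.Agent.AlgSpDec.SpQuot

/-!
# Universal first order thickenings and etale morphisms
-/

set_option linter.style.haveILetI false
set_option autoImplicit false
set_option backward.isDefEq.respectTransparency false
set_option backward.isDefEq.respectTransparency.types false

universe u

open CategoryTheory CategoryTheory.Limits AlgebraicGeometry Opposite AlgSp Groth.Agent.AlgSpDec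

namespace Groth.Agent.AlgSpLib.InfUniv

variable {S : Scheme.{u}}

theorem integral_of_thick {F G : Sp S} {i : F ⟶ G} (hi : IsThickMor i) : RepWith @IsIntegralHom i :=
  repWith_mono (P := thick) (fun _ _ h hh => by
    have : IsClosedImmersion h := hh.1
    exact (inferInstance : IsIntegralHom h)) _ hi

theorem univInj_of_thick {F G : Sp S} {i : F ⟶ G} (hi : IsThickMor i) : RepWith @UniversallyInjective i :=
  repWith_mono (P := thick) (fun _ _ h hh => by
    have : IsClosedImmersion h := hh.1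
    exact (inferInstance : UniversallyInjective h)) _ hi

theorem surjective_of_thick {F G : Sp S} {i : F ⟶ G} (hi : IsThickMor i) : RepWith @Surjective i :=
  repWith_mono (P := thick) (fun _ _ h hh => hh.2) _ hi

theorem isUH_of_thick {T T' : Over S} {j : T ⟶ T'} (hj : IsThickMor ((yon S).map j)) : UHEquiv.IsUH j :=
  ⟨(repWith_yon_map_iff _ j).1 (integral_of_thick hj), (repWith_yon_map_iff _ j).1 (univInj_of_thick hj),
    (repWith_yon_map_iff _ j).1 (surjective_of_thick hj)⟩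

/-- Universality is stable under composition with a formally etale morphism. -/
theorem isUnivFOThick_comp {Z Z' Y X : Sp S} {hZ : Z ⟶ Y} {g : Y ⟶ X} {i : Z ⟶ Z'} {h' : Z' ⟶ Y}
    (HU : IsUnivFOThick hZ i h') (hg : IsFormallyEtaleMor g) : IsUnivFOThick (hZ ≫ g) i (h' ≫ g) := by
  refine ⟨HU.1, by rw [← Category.assoc, HU.2.1], ?_⟩
  intro T T' hT hT' j a b hj hw
  obtain ⟨c, ⟨hc₁, hc₂⟩, hc⟩ := existsUnique_lift_of_formallyEtale hg hT' hj (a ≫ hZ) b
    ((Category.assoc _ _ _).trans hw.symm)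
  obtain ⟨a', ⟨h₁, h₂⟩, ha'⟩ := HU.2.2 hT hT' j a c hj hc₁
  refine ⟨a', ⟨h₁, ?_⟩, fun y hy => ha' y ⟨hy.1, hc (y ≫ h') ⟨?_, (Category.assoc _ _ _).trans hy.2⟩⟩⟩
  · rw [← Category.assoc, h₂, hc₂]
  · rw [← Category.assoc, hy.1, Category.assoc, HU.2.1]

section Descend

variable {Z Y Z' Y' X : Sp S} {e : Z ⟶ Y} {hY : Y ⟶ X} {iZ : Z ⟶ Z'} {iY : Y ⟶ Y'} {f' : Z' ⟶ Y'}
  {hY' : Y' ⟶ X}

/-- Locally for the etale topology a test object lifts to the etale cover, and there the lift is unique. -/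
theorem exists_local_lift (hZ : IsAlgSpace Z) (hYa : IsAlgSpace Y) (hZ' : IsAlgSpace Z') (he : IsEtaleMor e)
    (hes : Function.Surjective (Points.map e)) (hf' : IsEtaleMor f') (w : iZ ≫ f' = e ≫ iY)
    (HU : IsUnivFOThick (e ≫ hY) iZ (f' ≫ hY')) {T T' : Over S} (j : T ⟶ T')
    (hj : IsFOThickMor ((yon S).map j)) (a : (yon S).obj T ⟶ Y) (b : (yon S).obj T' ⟶ X)
    (hw : (yon S).map j ≫ b = a ≫ hY) :
    ∃ (W B : Over S) (c : W ⟶ T) (v : B ⟶ T') (cB : W ⟶ B) (l : (yon S).obj B ⟶ Z'),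
      Etale v.left ∧ Surjective v.left ∧ Etale c.left ∧ Surjective c.left ∧ IsPullback cB c v j ∧
      (yon S).map cB ≫ l ≫ f' = (yon S).map c ≫ a ≫ iY ∧ l ≫ f' ≫ hY' = (yon S).map v ≫ b ∧
      ∀ a' : (yon S).obj T' ⟶ Y', (yon S).map j ≫ a' = a ≫ iY → a' ≫ hY' = b →
        (yon S).map v ≫ a' = l ≫ f' := by
  obtain ⟨U, q, hq, hqs⟩ := hZ.atlas
  have hqe : RepWith @Etale (q ≫ e) := he q hq
  have hqes : RepWith @Surjective (q ≫ e) := repWith_surjective_of_surjective hqe.rep (by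
    rw [show Points.map (q ≫ e) = Points.map e ∘ Points.map q from funext fun x => Points.map_comp q e x]
    exact hes.comp (surjective_map_of_repWith hqs))
  let W := hqe.rep.pullback a
  let c : W ⟶ T := hqe.rep.snd a
  let x : (yon S).obj W ⟶ Z := hqe.rep.fst a ≫ q
  have hxe : x ≫ e = (yon S).map c ≫ a := by
    rw [Category.assoc]
    exact (hqe.rep.isPullback a).w
  have hc : Etale c.left := hqe.property_snd a
  have hcs : Surjective c.left := hqes.property a _ _ (hqe.rep.isPullback a)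
  obtain ⟨B, v, cB, hv, sq, sqS, hcB⟩ := UHEquiv.exists_etale_ext j (isUH_of_thick hj.1) c hc
  have hvs : Surjective v.left := by
    refine ⟨fun t => ?_⟩
    obtain ⟨t₀, rfl⟩ := (isUH_of_thick hj.1).surj.surj t
    obtain ⟨w₀, rfl⟩ := hcs.surj t₀
    exact ⟨cB.left w₀, by rw [← Scheme.Hom.comp_apply, ← Scheme.Hom.comp_apply, sqS.w]⟩
  have hcBj : IsFOThickMor ((yon S).map cB) :=
    isFOThickMor_baseChange (IsAlgSpace.yon_obj T') hj (sq.flip.map (yon S))
  have hwB : (yon S).map cB ≫ (yon S).map v ≫ b = x ≫ e ≫ hY := by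
    rw [← Category.assoc, ← Functor.map_comp, sq.w, Functor.map_comp, Category.assoc, hw,
      ← Category.assoc x, hxe, Category.assoc]
  obtain ⟨l, ⟨hl₁, hl₂⟩, hlu⟩ := HU.2.2 (IsAlgSpace.yon_obj W) (IsAlgSpace.yon_obj B) _ x
    ((yon S).map v ≫ b) hcBj hwB
  refine ⟨W, B, c, v, cB, l, hv, hvs, hc, hcs, sq, ?_, hl₂, fun a' ha₁ ha₂ => ?_⟩
  · rw [← Category.assoc, hl₁, Category.assoc, w, ← Category.assoc, hxe, Category.assoc]
  · obtain ⟨l', ⟨hl'₁, hl'₂⟩, -⟩ := existsUnique_lift_of_formallyEtale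
      (isFormallyEtaleMor_of_isEtaleMor hZ' hf') (IsAlgSpace.yon_obj B) hcBj (x ≫ iZ) ((yon S).map v ≫ a') (by
        rw [Category.assoc, w, ← Category.assoc, hxe, Category.assoc, ← ha₁, ← Category.assoc, ← Functor.map_comp,
          ← sq.w, Functor.map_comp, Category.assoc])
    rw [← hl'₂, hlu l' ⟨hl'₁, by rw [← Category.assoc, hl'₂, Category.assoc, ha₂]⟩]

/-- Universal first order thickenings descend along etale surjections. -/
theorem isUnivFOThick_descend (hZ : IsAlgSpace Z) (hYa : IsAlgSpace Y) (hZ' : IsAlgSpace Z')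
    (he : IsEtaleMor e) (hes : Function.Surjective (Points.map e)) (hiY : IsFOThickMor iY)
    (hf' : IsEtaleMor f') (w : iZ ≫ f' = e ≫ iY) (w' : iY ≫ hY' = hY)
    (HU : IsUnivFOThick (e ≫ hY) iZ (f' ≫ hY')) : IsUnivFOThick hY iY hY' := by
  have huniq : ∀ {T T' : Over S} (j : T ⟶ T'), IsFOThickMor ((yon S).map j) →
      ∀ (a : (yon S).obj T ⟶ Y) (b : (yon S).obj T' ⟶ X), (yon S).map j ≫ b = a ≫ hY →
      ∀ (y z : (yon S).obj T' ⟶ Y'), (yon S).map j ≫ y = a ≫ iY → y ≫ hY' = b →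
        (yon S).map j ≫ z = a ≫ iY → z ≫ hY' = b → y = z := by
    intro T T' j hj a b hw y z hy₁ hy₂ hz₁ hz₂
    obtain ⟨W, B, c, v, cB, l, hv, hvs, -, -, -, -, -, hu⟩ :=
      exists_local_lift hZ hYa hZ' he hes hf' w HU j hj a b hw
    have := epi_of_etale_surjective ((repWith_yon_map_iff _ v).2 hv) ((repWith_yon_map_iff _ v).2 hvs)
    rw [← cancel_epi ((yon S).map v), hu y hy₁ hy₂, hu z hz₁ hz₂]
  refine (isUnivFOThick_iff hY iY hY' hiY w').2 fun T T' j _ hj a b hw => ?_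
  refine existsUnique_of_exists_of_unique ?_ fun y z hy hz => huniq j hj a b hw y z hy.1 hy.2 hz.1 hz.2
  obtain ⟨W, B, c, v, cB, l, hv, hvs, hc, hcs, sqW, hl₁, hl₂, -⟩ :=
    exists_local_lift hZ hYa hZ' he hes hf' w HU j hj a b hw
  have := epi_of_etale_surjective ((repWith_yon_map_iff _ v).2 hv) ((repWith_yon_map_iff _ v).2 hvs)
  have : EffectiveEpi ((yon S).map v) :=
    (isRegularEpi_iff_effectiveEpi _).1 (IsRegularEpiCategory.regularEpiOfEpi ((yon S).map v))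
  -- agreement on the double overlap
  let p := pullback.fst v v
  let p' := pullback.snd v v
  let T₂ := pullback j (p ≫ v)
  let j₂ : T₂ ⟶ pullback v v := pullback.snd j (p ≫ v)
  let ρ : T₂ ⟶ T := pullback.fst j (p ≫ v)
  have hj₂ : IsFOThickMor ((yon S).map j₂) :=
    isFOThickMor_baseChange (IsAlgSpace.yon_obj T') hj ((IsPullback.of_hasPullback j (p ≫ v)).map (yon S))
  have hwT₂ : (yon S).map j₂ ≫ (yon S).map (p ≫ v) ≫ b = ((yon S).map ρ ≫ a) ≫ hY := by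
    rw [← Category.assoc, ← Functor.map_comp, ← pullback.condition, Functor.map_comp, Category.assoc, hw,
      Category.assoc]
  have hsol : ∀ q : pullback v v ⟶ B, q ≫ v = p ≫ v →
      (yon S).map j₂ ≫ (yon S).map q ≫ l ≫ f' = ((yon S).map ρ ≫ a) ≫ iY ∧
        ((yon S).map q ≫ l ≫ f') ≫ hY' = (yon S).map (p ≫ v) ≫ b := by
    intro q hq
    refine ⟨?_, ?_⟩
    · -- both lift the restriction to the small scheme
      have e₁ : (j₂ ≫ q) ≫ v = ρ ≫ j := by rw [Category.assoc, hq, ← pullback.condition]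
      rw [← Category.assoc, ← Functor.map_comp, ← sqW.lift_fst (j₂ ≫ q) ρ e₁, Functor.map_comp, Category.assoc,
        hl₁, ← Category.assoc, ← Functor.map_comp, sqW.lift_snd, Category.assoc]
    · rw [Category.assoc, Category.assoc, hl₂, ← Category.assoc, ← Functor.map_comp, hq]
  have hp : (yon S).map p ≫ l ≫ f' = (yon S).map p' ≫ l ≫ f' :=
    huniq j₂ hj₂ _ _ hwT₂ _ _ (hsol p rfl).1 (hsol p rfl).2 (hsol p' pullback.condition.symm).1
      (hsol p' pullback.condition.symm).2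
  have hagree : ∀ {Q : Sp S} (g₁ g₂ : Q ⟶ (yon S).obj B),
      g₁ ≫ (yon S).map v = g₂ ≫ (yon S).map v → g₁ ≫ l ≫ f' = g₂ ≫ l ≫ f' := by
    intro Q g₁ g₂ hg
    have sq := (IsPullback.of_hasPullback v v).map (yon S)
    rw [← sq.lift_fst g₁ g₂ hg, Category.assoc, hp, ← Category.assoc, sq.lift_snd]
  refine ⟨EffectiveEpi.desc ((yon S).map v) (l ≫ f') hagree, ?_, ?_⟩
  · have := epi_of_etale_surjective ((repWith_yon_map_iff _ c).2 hc) ((repWith_yon_map_iff _ c).2 hcs)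
    rw [← cancel_epi ((yon S).map c), ← Category.assoc, ← Functor.map_comp, ← sqW.w, Functor.map_comp,
      Category.assoc, EffectiveEpi.fac, hl₁]
  · rw [← cancel_epi ((yon S).map v), ← Category.assoc, EffectiveEpi.fac, Category.assoc, hl₂]

end Descend

theorem isFormallyUnramifiedMor_cancel {F G H : Sp S} {a : F ⟶ G} {b : G ⟶ H}
    (h : IsFormallyUnramifiedMor (a ≫ b)) : IsFormallyUnramifiedMor a := by
  intro sq m m' h₁ h₂ h₁' h₂'
  let sq' : InfSq (a ≫ b) :=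
    { A := sq.A, I := sq.I, sq_zero := sq.sq_zero, str := sq.str, top := sq.top, bot := sq.bot ≫ b
      comm := by rw [← Category.assoc, sq.comm, Category.assoc] }
  exact h sq' m m' h₁ (by rw [← Category.assoc, h₂]) h₁' (by rw [← Category.assoc, h₂'])

/-- Etale charts extend to thickenings. -/
theorem exists_etale_lift {Z Z' : Sp S} (hZ : IsAlgSpace Z) (hZ' : IsAlgSpace Z') {i : Z ⟶ Z'}
    (hi : IsThickMor i) {W : Over S} (q : (yon S).obj W ⟶ Z) (hq : RepWith @Etale q) :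
    ∃ (B : Over S) (b : (yon S).obj B ⟶ Z') (c : W ⟶ B),
      RepWith @Etale b ∧ IsPullback q ((yon S).map c) i b := by
  obtain ⟨V', hV', b', c, hb', sq⟩ := UHEquiv.exists_descend hZ hZ' (IsAlgSpace.yon_obj W) (integral_of_thick hi)
    (univInj_of_thick hi) (surjective_of_thick hi) (isEtaleMor_of_repWith hq)
  obtain ⟨B, ⟨eB⟩⟩ := UHScheme.exists_scheme (IsAlgSpace.yon_obj W) hV'
    (repWith_of_isPullback sq (integral_of_thick hi)) (repWith_of_isPullback sq (univInj_of_thick hi))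
    (repWith_of_isPullback sq (surjective_of_thick hi)) (Iso.refl _)
  refine ⟨B, eB.hom ≫ b', (yon S).preimage (c ≫ eB.inv), hb' eB.hom (repWith_of_isIso _ _), ?_⟩
  rw [Functor.map_preimage]
  exact sq.of_iso (Iso.refl _) (Iso.refl _) eB.symm (Iso.refl _) (by simp) (by simp) (by simp) (by simp)

/-- The map of universal thickenings over an etale square is etale. -/
theorem isEtaleMor_of_univ {Z X Z' V U V' : Sp S} (hZ : IsAlgSpace Z) (hVa : IsAlgSpace V) (hUa : IsAlgSpace U)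
    (hZ' : IsAlgSpace Z') (hV' : IsAlgSpace V') {h : Z ⟶ X} {iZ : Z ⟶ Z'} {hZ'X : Z' ⟶ X}
    (HZ : IsUnivFOThick h iZ hZ'X) {v : V ⟶ Z} {w : U ⟶ X} (hv : IsEtaleMor v) (hw : IsEtaleMor w)
    {ψ : V ⟶ U} (c : ψ ≫ w = v ≫ h) {iV : V ⟶ V'} {hV'U : V' ⟶ U} (HV : IsUnivFOThick ψ iV hV'U)
    (e' : V' ⟶ Z') (h₁ : iV ≫ e' = v ≫ iZ) (h₂ : e' ≫ hZ'X = hV'U ≫ w) : IsEtaleMor e' := by
  obtain ⟨W, q, hq, hqs⟩ := hVa.atlas
  obtain ⟨B₁, b₁, c₁, hb₁, sq₁⟩ := exists_etale_lift hZ hZ' HZ.1.1 (q ≫ v) (hv q hq)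
  obtain ⟨B₂, b₂, c₂, hb₂, sq₂⟩ := exists_etale_lift hVa hV' HV.1.1 q hq
  have H₁ := isUnivFOThick_etale hZ' (IsAlgSpace.yon_obj B₁) (q ≫ v) h iZ hZ'X HZ ((yon S).map c₁) b₁
    (isEtaleMor_of_repWith hb₁) sq₁
  have H₂ := isUnivFOThick_comp (isUnivFOThick_etale hV' (IsAlgSpace.yon_obj B₂) q ψ iV hV'U HV
    ((yon S).map c₂) b₂ (isEtaleMor_of_repWith hb₂) sq₂) (isFormallyEtaleMor_of_isEtaleMor hUa hw)
  rw [Category.assoc, c, ← Category.assoc q v h] at H₂
  have hW := IsAlgSpace.yon_obj (S := S) W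
  obtain ⟨σ, ⟨hσ₁, hσ₂⟩, -⟩ := H₁.2.2 hW (IsAlgSpace.yon_obj B₂) ((yon S).map c₂) (𝟙 _) _ H₂.1
    (by rw [H₂.2.1, Category.id_comp])
  obtain ⟨τ, ⟨hτ₁, hτ₂⟩, -⟩ := H₂.2.2 hW (IsAlgSpace.yon_obj B₁) ((yon S).map c₁) (𝟙 _) _ H₁.1
    (by rw [H₁.2.1, Category.id_comp])
  rw [Category.id_comp] at hσ₁ hτ₁
  have hστ : σ ≫ τ = 𝟙 _ := (H₂.2.2 hW (IsAlgSpace.yon_obj B₂) _ (𝟙 _) _ H₂.1
    (by rw [H₂.2.1, Category.id_comp])).unique ⟨by rw [← Category.assoc, hσ₁, hτ₁, Category.id_comp],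
      by rw [Category.assoc, hτ₂, hσ₂]⟩ ⟨by rw [Category.comp_id, Category.id_comp], Category.id_comp _⟩
  have hτσ : τ ≫ σ = 𝟙 _ := (H₁.2.2 hW (IsAlgSpace.yon_obj B₁) _ (𝟙 _) _ H₁.1
    (by rw [H₁.2.1, Category.id_comp])).unique ⟨by rw [← Category.assoc, hτ₁, hσ₁, Category.id_comp],
      by rw [Category.assoc, hσ₂, hτ₂]⟩ ⟨by rw [Category.comp_id, Category.id_comp], Category.id_comp _⟩
  have : IsIso σ := ⟨τ, hστ, hτσ⟩
  have key : b₂ ≫ e' = σ ≫ b₁ := by
    refine (HZ.2.2 hW (IsAlgSpace.yon_obj B₂) ((yon S).map c₂) (q ≫ v) (b₂ ≫ hV'U ≫ w) H₂.1 H₂.2.1).unique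
      ⟨?_, ?_⟩ ⟨?_, ?_⟩
    · rw [← Category.assoc, ← sq₂.w, Category.assoc, h₁, Category.assoc]
    · rw [Category.assoc, h₂]
    · rw [← Category.assoc, hσ₁, ← sq₁.w]
    · rw [Category.assoc, hσ₂, Category.assoc]
  have hbe : RepWith @Etale (b₂ ≫ e') := by
    rw [key]
    exact repWith_comp (repWith_of_isIso _ σ) hb₁
  have hb₂s : RepWith @Surjective b₂ := repWith_surjective_of_surjective hb₂.rep fun y => by
    obtain ⟨x, rfl⟩ := surjective_map_of_repWith (surjective_of_thick HV.1.1) y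
    obtain ⟨z, rfl⟩ := surjective_map_of_repWith hqs x
    exact ⟨Points.map ((yon S).map c₂) z, by rw [← Points.map_comp, ← Points.map_comp, sq₂.w]⟩
  exact (isEtaleMor_iff_locP hV' hZ' e').2 (AlgSpDec.locP_of_precomp hb₂ hb₂s (locP_of_repWith hbe))

end Groth.Agent.AlgSpLib.InfUniv
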