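import Groth.Agent.AlgSpLib.SmoothLocalInst
import Groth.Agent.RegKinds.Near
import Groth.Agent.KRegLib.FpqcDescent
import Groth.Agent.KRegLib.Descend
import Groth.Agent.GrpSchLib.Syntomic

/-!
# Koszul morphisms are smooth local on the source and target
-/

set_option autoImplicit false
set_option backward.isDefEq.respectTransparency false
set_option backward.isDefEq.respectTransparency.types false

universe u

open CategoryTheory CategoryTheory.Limits AlgebraicGeometry AlgSp

namespace Groth.Agent.AlgSpLib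

open Groth.Agent.RegKinds

variable {S : Scheme.{u}}

instance isLocalAtSource_isLCI'_smooth :
    MorphismProperty.IsLocalAtSource (KRegLib.IsLCI'.{u}) (Scheme.precoverage @Smooth) :=
  SrcDescent.isLocalAtSource_of_surjective
    (fun f g hf hg => (KRegLib.forall_isKoszulAt_iff _).1 (S8661.result f g
      (fun x => by haveI : Smooth f := hf; exact CurvLocusLib.isKoszulAt_of_smooth f x)
      ((KRegLib.forall_isKoszulAt_iff g).2 hg)))
    fun f g hf hs h => (KRegLib.forall_isKoszulAt_iff _).1 fun x => by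
      haveI : Smooth f := hf
      haveI := hs
      exact KRegLib.isKoszulAt_of_syntomic_precomp f (GrpSchLib.Syntomic.isSyntomic_of_smooth f) g
        ((KRegLib.forall_isKoszulAt_iff _).2 h) x

theorem locP_isLCI'_comp_smooth {X Y Z : Sp S} (hX : IsAlgSpace X) (hY : IsAlgSpace Y) (hZ : IsAlgSpace Z)
    {f : X ⟶ Y} {g : Y ⟶ Z} (hf : LocP KRegLib.IsLCI' f) (hg : LocP @Smooth g) :
    LocP KRegLib.IsLCI' (f ≫ g) := by
  obtain ⟨V, W, b, c, k, hb, hb', hc, hc', hk⟩ := exists_chart hY hZ g
  obtain ⟨U, a₀, h, h1, h2, h3⟩ := exists_chart_over hX hY f b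
  have ha : RepWith @Etale (a₀ ≫ pullback.fst f b) := repWith_comp h1 (repWith_fst f hb)
  have w : (a₀ ≫ pullback.fst f b) ≫ f = (yon S).map h ≫ b := by
    rw [Category.assoc, pullback.condition, ← Category.assoc, h3]
  refine locP_of_chartF (h := h ≫ k) ha (repWith_comp h2 (repWith_fst f hb')) hc ?_ ?_
  · rw [← Category.assoc, w, Category.assoc, hk, Functor.map_comp, Category.assoc]
  · haveI : Smooth k.left := hg _ _ _ hb hc hk
    rw [Over.comp_left]
    exact (KRegLib.forall_isKoszulAt_iff _).1 (S8661.result _ _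
      ((KRegLib.forall_isKoszulAt_iff _).2 (hf _ _ _ ha hb w)) fun y => CurvLocusLib.isKoszulAt_of_smooth _ y)

theorem isSmoothLocalST_lci : IsSmoothLocalST (S := S) IsLCIMor := by
  show IsSmoothLocalST (LocP lci)
  rw [lci_eq_isLCI']
  haveI : (KRegLib.IsLCI'.{u}).DescendsAlong (@Surjective ⊓ @Flat ⊓ @QuasiCompact) := KRegLib.isLCI'_descendsAlong
  exact isSmoothLocalST_of_local (isLocalOnSource_smooth _)
    (isLocalOnBase_smCover_of_fppf (isLocalOnBase_fppfCover_of_fpqc isLocalOnBase_fpqc_locPF))
    fun _ _ _ hX hY hZ _ _ hf hg => locP_isLCI'_comp_smooth hX hY hZ hf hg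

end Groth.Agent.AlgSpLib
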